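import Groth.Agent.EtCoh.K611.Exact

/-!
# Multiplicativity of the Euler characteristic (job 185, node E of S18106)
-/

set_option autoImplicit false
universe u
open CategoryTheory CategoryTheory.Limits AlgebraicGeometry Opposite

namespace K472.EulerMul

universe w

section abs

variable {A B C : ℕ → Type w} [∀ i, AddCommGroup (A i)] [∀ i, AddCommGroup (B i)] [∀ i, AddCommGroup (C i)]

theorem card_eq {G H : Type w} [AddCommGroup G] [AddCommGroup H] (f : G →+ H) :
    Nat.card G = Nat.card f.ker * Nat.card f.range := by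
  rw [Nat.card_congr (QuotientAddGroup.quotientKerEquivRange f).toEquiv.symm]
  exact (AddSubgroup.card_eq_card_quotient_mul_card_addSubgroup f.ker).trans (mul_comm _ _)

theorem prod_eq [∀ i, Finite (A i)] [∀ i, Finite (B i)] [∀ i, Finite (C i)]
    (α : ∀ i, A i →+ B i) (β : ∀ i, B i →+ C i) (δ : ∀ i, C i →+ A (i + 1))
    (h₀ : Function.Injective (α 0)) (h₁ : ∀ i, (β i).ker = (α i).range) (h₂ : ∀ i, (δ i).ker = (β i).range)
    (h₃ : ∀ i, (α (i + 1)).ker = (δ i).range) (n : ℕ) :
    (∏ i ∈ Finset.range n, (Nat.card (A i) : ℚ) ^ ((-1) ^ i : ℤ)) *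
      (∏ i ∈ Finset.range n, (Nat.card (C i) : ℚ) ^ ((-1) ^ i : ℤ)) =
    (∏ i ∈ Finset.range n, (Nat.card (B i) : ℚ) ^ ((-1) ^ i : ℤ)) *
      (Nat.card (α n).ker : ℚ) ^ (-(-1) ^ n : ℤ) := by
  induction n with
  | zero =>
    have : Nat.card (α 0).ker = 1 := by
      rw [(AddMonoidHom.ker_eq_bot_iff (α 0)).2 h₀, AddSubgroup.card_bot]
    rw [this]
    simp
  | succ n ih =>
    rw [Finset.prod_range_succ, Finset.prod_range_succ, Finset.prod_range_succ, mul_mul_mul_comm, ih]
    have eA := card_eq (α n)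
    have eB := card_eq (β n)
    have eC := card_eq (δ n)
    rw [h₁ n] at eB
    rw [h₂ n, ← h₃ n] at eC
    have p₁ : (Nat.card (α n).ker : ℚ) ≠ 0 := Nat.cast_ne_zero.2 Nat.card_pos.ne'
    have p₂ : (Nat.card (α n).range : ℚ) ≠ 0 := Nat.cast_ne_zero.2 Nat.card_pos.ne'
    have p₃ : (Nat.card (β n).range : ℚ) ≠ 0 := Nat.cast_ne_zero.2 Nat.card_pos.ne'
    have p₄ : (Nat.card (α (n + 1)).ker : ℚ) ≠ 0 := Nat.cast_ne_zero.2 Nat.card_pos.ne'
    rw [eA, eB, eC]
    push_cast
    rw [mul_zpow, mul_zpow, mul_zpow]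
    have e : (-(-1) ^ (n + 1) : ℤ) = (-1) ^ n := by ring
    rw [e, zpow_neg]
    have q₁ := zpow_ne_zero ((-1) ^ n : ℤ) p₁
    field_simp

end abs

section field

universe v

theorem nonempty_addEquiv (K : Type v) [Field K] [Finite K] (G H : Type w) [AddCommGroup G] [AddCommGroup H] [Module K G]
    [Module K H] [Finite G] [Finite H] (h : Nat.card G = Nat.card H) : Nonempty (G ≃+ H) := by
  have hp : 1 < Nat.card K := Finite.one_lt_card
  have fG : Module.Finite K G := Module.Finite.of_finite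
  have fH : Module.Finite K H := Module.Finite.of_finite
  have cG := Module.natCard_eq_pow_finrank (K := K) (V := G)
  have cH := Module.natCard_eq_pow_finrank (K := K) (V := H)
  have : Module.finrank K G = Module.finrank K H :=
    Nat.pow_right_injective hp (cG.symm.trans (h.trans cH))
  exact ⟨(LinearEquiv.ofFinrankEq G H this).toAddEquiv⟩

theorem card_dual (K : Type v) [Field K] [Finite K] (G : Type w) [AddCommGroup G] [Module K G] [Finite G] :
    Nat.card (G →ₗ[K] K) = Nat.card G := by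
  have fG : Module.Finite K G := Module.Finite.of_finite
  have cG := Module.natCard_eq_pow_finrank (K := K) (V := G)
  have cH := Module.natCard_eq_pow_finrank (K := K) (V := G →ₗ[K] K)
  rw [cG, cH]
  congr 1
  exact Subspace.dual_finrank_eq

end field

end K472.EulerMul

/-- multiplicative Euler characteristic of the degrees `< N` -/
noncomputable def K611.chi {X : Scheme.{u}} (N : ℕ) (F : EtCoh.Ab X) : ℚ :=
  ∏ i ∈ Finset.range N, (Nat.card (EtCoh.H X F i) : ℚ) ^ ((-1) ^ i : ℤ)

open CategoryTheory.Abelian K472.EulerMul in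
/-- NODE E -/
theorem K611.chi_mul {X : Scheme.{u}} (S : ShortComplex (EtCoh.Ab X)) (hS : S.ShortExact)
    (h₁ : ∀ i, Finite (EtCoh.H X S.X₁ i)) (h₂ : ∀ i, Finite (EtCoh.H X S.X₂ i))
    (h₃ : ∀ i, Finite (EtCoh.H X S.X₃ i)) (N : ℕ) (hN : Subsingleton (EtCoh.H X S.X₁ N)) :
    K611.chi N S.X₂ = K611.chi N S.X₁ * K611.chi N S.X₃ := by
  have hm : Mono S.f := hS.mono_f
  let α : ∀ i, EtCoh.H X S.X₁ i →+ EtCoh.H X S.X₂ i := fun i => (Ext.mk₀ S.f).postcomp _ (add_zero i)
  let β : ∀ i, EtCoh.H X S.X₂ i →+ EtCoh.H X S.X₃ i := fun i => (Ext.mk₀ S.g).postcomp _ (add_zero i)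
  let δ : ∀ i, EtCoh.H X S.X₃ i →+ EtCoh.H X S.X₁ (i + 1) := fun i => hS.extClass.postcomp _ rfl
  have key := prod_eq α β δ (Ext.postcomp_mk₀_injective_of_mono _ S.f)
    (fun i => by
      ext x
      constructor
      · intro hx
        obtain ⟨y, hy⟩ := Ext.covariant_sequence_exact₂ _ hS x hx
        exact ⟨y, hy⟩
      · rintro ⟨y, rfl⟩
        change ((y.comp (Ext.mk₀ S.f) (add_zero i)).comp (Ext.mk₀ S.g) (add_zero i) : EtCoh.H X S.X₃ i) = 0
        simp only [Ext.comp_assoc_of_third_deg_zero, Ext.mk₀_comp_mk₀, ShortComplex.zero, Ext.mk₀_zero,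
          Ext.comp_zero])
    (fun i => by
      ext x
      constructor
      · intro hx
        obtain ⟨y, hy⟩ := Ext.covariant_sequence_exact₃ _ hS x rfl hx
        exact ⟨y, hy⟩
      · rintro ⟨y, rfl⟩
        change ((y.comp (Ext.mk₀ S.g) (add_zero i)).comp hS.extClass rfl : EtCoh.H X S.X₁ (i + 1)) = 0
        simp only [Ext.comp_assoc_of_second_deg_zero, ShortComplex.ShortExact.comp_extClass, Ext.comp_zero])
    (fun i => by
      ext x
      constructor
      · intro hx
        obtain ⟨y, hy⟩ := Ext.covariant_sequence_exact₁ _ hS x hx rfl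
        exact ⟨y, hy⟩
      · rintro ⟨y, rfl⟩
        change ((y.comp hS.extClass rfl).comp (Ext.mk₀ S.f) (add_zero (i + 1)) : EtCoh.H X S.X₂ (i + 1)) = 0
        simp only [Ext.comp_assoc_of_third_deg_zero, ShortComplex.ShortExact.extClass_comp, Ext.comp_zero])
    N
  have h1 : Nat.card (α N).ker = 1 := by
    have : Subsingleton (α N).ker := ⟨fun a b => Subtype.ext (hN.elim _ _)⟩
    exact Nat.card_unique
  rw [h1, Nat.cast_one, one_zpow, mul_one] at key
  exact key.symm

/-- NODE E2: elementary abelian groups of the same order -/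
theorem K611.nonempty_addEquiv_of_card (p : ℕ) [Fact p.Prime] (G H : Type*) [AddCommGroup G] [AddCommGroup H]
    [Finite G] [Finite H] (hG : ∀ x : G, p • x = 0) (hH : ∀ x : H, p • x = 0) (h : Nat.card G = Nat.card H) :
    Nonempty (G ≃+ H) := by
  let mG : Module (ZMod p) G := AddCommGroup.zmodModule hG
  let mH : Module (ZMod p) H := AddCommGroup.zmodModule hH
  have e1 : Nat.card (ULift.{max u_1 u_2} G) = Nat.card (ULift.{max u_1 u_2} H) := by
    rw [Nat.card_ulift, Nat.card_ulift, h]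
  obtain ⟨e⟩ := K472.EulerMul.nonempty_addEquiv (ZMod p) (ULift.{max u_1 u_2} G) (ULift.{max u_1 u_2} H) e1
  exact ⟨AddEquiv.ulift.symm.trans (e.trans AddEquiv.ulift)⟩

/-- NODE E3 -/
theorem K611.card_hom_zmod (p : ℕ) [Fact p.Prime] (G : Type*) [AddCommGroup G] [Finite G]
    (hG : ∀ x : G, p • x = 0) : Nat.card (G →+ ZMod p) = Nat.card G := by
  let mG : Module (ZMod p) G := AddCommGroup.zmodModule hG
  rw [← K472.EulerMul.card_dual (ZMod p) G]
  refine Nat.card_congr
    { toFun := fun f => f.toZModLinearMap p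
      invFun := fun f => f.toAddMonoidHom
      left_inv := fun f => by ext x; rfl
      right_inv := fun f => by ext x; rfl }
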